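import Groth.Agent.Lib.ExtFil4.Main

/-!
# Uniqueness of exterior powers, and the degrees zero and one
-/

set_option autoImplicit false
set_option linter.style.haveILetI false
set_option backward.isDefEq.respectTransparency false
set_option backward.isDefEq.respectTransparency.types false

universe u

open CategoryTheory Limits AlgebraicGeometry Opposite TopologicalSpace exteriorPower

namespace Groth.Agent.ExtFil4

open KoszShH13 (isAffBasis_top exists_glue)

variable {X : Scheme.{u}} {i : ℕ} {E L L₀ : X.Modules}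

/-- Exterior powers of a module are unique. -/
theorem isoExtPow (h : ExtPow.IsExtPow i E L) (h₀ : ExtPow.IsExtPow i E L₀) : Nonempty (L ≅ L₀) := by
  obtain ⟨φ, hφ⟩ := exists_phi h
  obtain ⟨ψ, hψ⟩ := exists_phi h₀
  have hρ : ∀ (U V : X.affineOpens) (hUV : V.1 ≤ U.1) (x), rho φ U V hUV x = rho ψ U V hUV x := by
    intro U V hUV x
    have hx : x ∈ Submodule.span Γ(X, U.1) (Set.range (ιMulti Γ(X, U.1) i (M := Γ(E, U.1)))) := by
      rw [ιMulti_span]; trivial
    induction hx using Submodule.span_induction with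
    | zero => rw [map_zero, map_zero]
    | add a b _ _ ha hb => rw [map_add, map_add, ha, hb]
    | smul c a _ ha => rw [rho_smul, rho_smul, ha]
    | mem a ha =>
      obtain ⟨e, rfl⟩ := ha
      rw [rho_apply, rho_apply, hφ U V hUV e, hψ U V hUV e, LinearEquiv.apply_symm_apply,
        LinearEquiv.apply_symm_apply]
  let f : ∀ U : X.affineOpens, Γ(L, U.1) ≃ₗ[Γ(X, U.1)] Γ(L₀, U.1) := fun U => (φ U).trans (ψ U).symm
  obtain ⟨g, hg⟩ := exists_glue (P := fun _ => True) isAffBasis_top (fun U _ => (f U).toLinearMap.toAddMonoidHom)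
    (fun U _ c m => (f U).map_smul c m) (fun U _ V _ h m => by
      show M1.mres L₀ h ((ψ U).symm (φ U m)) = (ψ V).symm (φ V (M1.mres L h m))
      have := hρ U V h (φ U m)
      rw [rho_apply, rho_apply, LinearEquiv.symm_apply_apply] at this
      rw [this, LinearEquiv.symm_apply_apply])
  haveI : IsIso g := (M1.isIso_iff_stalk g).2 fun x =>
    KoszShH13.bijective_stalk_of_basis isAffBasis_top g x fun U hU _ => by
      have : ⇑(g.app U.1).hom = ⇑(f U) := funext fun m => hg U hU m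
      exact this ▸ (f U).bijective
  exact ⟨asIso g⟩

theorem isExtPow_zero (E : X.Modules) : ExtPow.IsExtPow 0 E (Coh.structureModule X) := by
  let φ : ∀ U : X.affineOpens, Γ(Coh.structureModule X, U.1) ≃ₗ[Γ(X, U.1)] ↥(⋀[Γ(X, U.1)]^0 Γ(E, U.1)) :=
    fun U => (show Γ(X, U.1) ≃ₗ[Γ(X, U.1)] ↥(⋀[Γ(X, U.1)]^0 Γ(E, U.1)) from (zeroEquiv Γ(X, U.1) Γ(E, U.1)).symm)
  refine ⟨φ, fun U V h e => ?_⟩
  show X.presheaf.map (homOfLE h).op ((zeroEquiv Γ(X, U.1) Γ(E, U.1)) (ιMulti _ 0 e)) =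
    (zeroEquiv Γ(X, V.1) Γ(E, V.1)) (ιMulti _ 0 fun j => M1.mres E h (e j))
  rw [zeroEquiv_ιMulti, zeroEquiv_ιMulti]
  exact map_one _

theorem isExtPow_one (E : X.Modules) : ExtPow.IsExtPow 1 E E := by
  let φ : ∀ U : X.affineOpens, Γ(E, U.1) ≃ₗ[Γ(X, U.1)] ↥(⋀[Γ(X, U.1)]^1 Γ(E, U.1)) :=
    fun U => (oneEquiv Γ(X, U.1) Γ(E, U.1)).symm
  refine ⟨φ, fun U V h e => ?_⟩
  show M1.mres E h ((oneEquiv Γ(X, U.1) Γ(E, U.1)) (ιMulti _ 1 e)) =
    (oneEquiv Γ(X, V.1) Γ(E, V.1)) (ιMulti _ 1 fun j => M1.mres E h (e j))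
  rw [oneEquiv_ιMulti, oneEquiv_ιMulti]

end Groth.Agent.ExtFil4
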