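import Mathlib.LinearAlgebra.ExteriorPower.Basic
import Mathlib.LinearAlgebra.Alternating.DomCoprod
import Mathlib.GroupTheory.Perm.Finite
import Mathlib.LinearAlgebra.TensorProduct.Basic

/-!
# The filtration of an exterior power given by a short exact sequence

For `f : E' → E`, `g : E → E''` with `g ∘ f = 0`, `Fil f n p` is spanned by the wedges whose first `p` entries come
from `E'`; for a split sequence its graded pieces are `⋀^p E' ⊗ ⋀^q E''`.
-/

set_option autoImplicit false
set_option backward.isDefEq.respectTransparency false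

universe u

open TensorProduct exteriorPower

namespace Groth.Agent.ExtFil4

variable {A E' E E'' : Type u} [CommRing A] [AddCommGroup E'] [Module A E'] [AddCommGroup E] [Module A E]
  [AddCommGroup E''] [Module A E'']

/-- The span of the wedges whose first `p` entries come from `E'`. -/
def Fil (f : E' →ₗ[A] E) (n p : ℕ) : Submodule A (⋀[A]^n E) :=
  Submodule.span A (ιMulti A n '' {v | p ≤ n ∧ ∀ i : Fin n, (i : ℕ) < p → v i ∈ LinearMap.range f})

theorem ιMulti_mem_Fil {f : E' →ₗ[A] E} {n p : ℕ} {v : Fin n → E} (hp : p ≤ n)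
    (h : ∀ i : Fin n, (i : ℕ) < p → v i ∈ LinearMap.range f) : ιMulti A n v ∈ Fil f n p :=
  Submodule.subset_span ⟨v, ⟨hp, h⟩, rfl⟩

theorem Fil_zero (f : E' →ₗ[A] E) (n : ℕ) : Fil f n 0 = ⊤ := by
  refine top_unique ?_
  rw [← ιMulti_span A n E, Submodule.span_le]
  rintro _ ⟨v, rfl⟩
  exact ιMulti_mem_Fil (Nat.zero_le _) fun i hi => absurd hi (Nat.not_lt_zero _)

theorem Fil_of_lt (f : E' →ₗ[A] E) {n p : ℕ} (h : n < p) : Fil f n p = ⊥ := by
  refine eq_bot_iff.2 (Submodule.span_le.2 ?_)
  rintro _ ⟨v, ⟨hp, -⟩, rfl⟩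
  omega

theorem Fil_antitone (f : E' →ₗ[A] E) (n p : ℕ) : Fil f n (p + 1) ≤ Fil f n p := by
  refine Submodule.span_le.2 ?_
  rintro _ ⟨v, ⟨hp, h⟩, rfl⟩
  exact ιMulti_mem_Fil (Nat.le_of_succ_le hp) fun i hi => h i (Nat.lt_succ_of_lt hi)

/-- Changing a later entry by an element of `E'` does not matter modulo the next step. -/
theorem update_mem_Fil {f : E' →ₗ[A] E} {n p : ℕ} {v : Fin n → E}
    (h : ∀ i : Fin n, (i : ℕ) < p → v i ∈ LinearMap.range f) {i : Fin n} (hi : p ≤ (i : ℕ)) {e : E}
    (he : e ∈ LinearMap.range f) : ιMulti A n (Function.update v i e) ∈ Fil f n (p + 1) := by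
  let j : Fin n := ⟨p, hi.trans_lt i.2⟩
  have hp : p + 1 ≤ n := j.2
  have key : ιMulti A n (Function.update v i e ∘ Equiv.swap i j) ∈ Fil f n (p + 1) := by
    refine ιMulti_mem_Fil hp fun k hk => ?_
    rcases Nat.lt_succ_iff_lt_or_eq.1 hk with hk' | hk'
    · have h1 : k ≠ j := fun e' => (lt_irrefl p) (by rw [e'] at hk'; exact hk')
      have h2 : k ≠ i := fun e' => absurd hi (by rw [← e']; omega)
      rw [Function.comp_apply, Equiv.swap_apply_of_ne_of_ne h2 h1, Function.update_of_ne h2]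
      exact h k hk'
    · obtain rfl : k = j := Fin.ext hk'
      rw [Function.comp_apply, Equiv.swap_apply_right, Function.update_self]
      exact he
  rw [AlternatingMap.map_perm] at key
  rw [Units.smul_def] at key
  rcases Int.units_eq_one_or (Equiv.Perm.sign (Equiv.swap i j)) with h' | h' <;> rw [h'] at key
  · simpa using key
  · simpa using key

/-- Replacing entries by congruent ones modulo `E'`. -/
theorem sub_mem_Fil {f : E' →ₗ[A] E} {n p : ℕ} {v w : Fin n → E}
    (h : ∀ i : Fin n, (i : ℕ) < p → v i ∈ LinearMap.range f) (hw : ∀ i : Fin n, (i : ℕ) < p → w i = v i)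
    (hd : ∀ i : Fin n, p ≤ (i : ℕ) → v i - w i ∈ LinearMap.range f) :
    ιMulti A n v - ιMulti A n w ∈ Fil f n (p + 1) := by
  classical
  let mix : Finset (Fin n) → Fin n → E := fun s i => if i ∈ s then w i else v i
  have key : ∀ s : Finset (Fin n), ιMulti A n v - ιMulti A n (mix s) ∈ Fil f n (p + 1) := by
    intro s
    induction s using Finset.induction_on with
    | empty => simp [mix]
    | @insert a s ha ih =>
      have hv : mix s a = v a := if_neg ha
      have hins : mix (insert a s) = Function.update (mix s) a (w a) := funext fun i => by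
        by_cases hia : i = a
        · subst hia
          rw [Function.update_self]
          exact if_pos (Finset.mem_insert_self _ _)
        · rw [Function.update_of_ne hia]
          simp only [mix, Finset.mem_insert, hia, false_or]
      by_cases hap : (a : ℕ) < p
      · have : mix (insert a s) = mix s := by rw [hins, hw a hap, ← hv, Function.update_eq_self]
        rw [this]; exact ih
      · have h1 : ιMulti A n (mix s) - ιMulti A n (mix (insert a s)) =
            ιMulti A n (Function.update (mix s) a (v a - w a)) := by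
          rw [AlternatingMap.map_update_sub, hins]
          congr 2
          rw [← hv, Function.update_eq_self]
        rw [show ιMulti A n v - ιMulti A n (mix (insert a s)) =
            (ιMulti A n v - ιMulti A n (mix s)) + (ιMulti A n (mix s) - ιMulti A n (mix (insert a s))) by abel, h1]
        refine add_mem ih (update_mem_Fil (fun i hi => ?_) (not_lt.1 hap) (hd a (not_lt.1 hap)))
        show (if i ∈ s then w i else v i) ∈ _
        split
        · rw [hw i hi]; exact h i hi
        · exact h i hi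
  have := key Finset.univ
  rwa [show mix Finset.univ = w from funext fun i => if_pos (Finset.mem_univ i)] at this

variable (r : E →ₗ[A] E') (g : E →ₗ[A] E'')

/-- The alternating map `v ↦ Σ ± r(v_σ) ⊗ g(v_τ)` over shuffles. -/
noncomputable def deltaAlt {n p q : ℕ} (hn : p + q = n) : E [⋀^Fin n]→ₗ[A] (⋀[A]^p E' ⊗[A] ⋀[A]^q E'') :=
  (((ιMulti A p).compLinearMap r).domCoprod ((ιMulti A q).compLinearMap g)).domDomCongr
    (finSumFinEquiv.trans (finCongr hn))

/-- The projection `⋀^n E → ⋀^p E' ⊗ ⋀^q E''` given by a retraction. -/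
noncomputable def delta {n p q : ℕ} (hn : p + q = n) : ⋀[A]^n E →ₗ[A] ⋀[A]^p E' ⊗[A] ⋀[A]^q E'' :=
  exteriorPower.alternatingMapLinearEquiv (N := ⋀[A]^p E' ⊗[A] ⋀[A]^q E'') (deltaAlt r g hn)

theorem delta_ιMulti {n p q : ℕ} (hn : p + q = n) (v : Fin n → E) :
    delta r g hn (ιMulti A n v) = ∑ σ : Equiv.Perm.ModSumCongr (Fin p) (Fin q),
      AlternatingMap.domCoprod.summand ((ιMulti A p).compLinearMap r) ((ιMulti A q).compLinearMap g) σ
        (fun i => v (finCongr hn (finSumFinEquiv i))) := by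
  rw [delta, alternatingMapLinearEquiv_apply_ιMulti, deltaAlt, AlternatingMap.domDomCongr_apply,
    AlternatingMap.domCoprod_apply, MultilinearMap.sum_apply]
  rfl

variable {g} {f : E' →ₗ[A] E} (hgf : ∀ x, g (f x) = 0)
include hgf

theorem g_eq_zero {x : E} (h : x ∈ LinearMap.range f) : g x = 0 := by
  obtain ⟨y, rfl⟩ := h
  exact hgf y

theorem delta_eq_zero {n p q : ℕ} (hn : p + q = n) {x : ⋀[A]^n E} (hx : x ∈ Fil f n (p + 1)) :
    delta r g hn x = 0 := by
  refine (LinearMap.mem_ker).1 ((Submodule.span_le (p := LinearMap.ker (delta r g hn))).2 ?_ hx)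
  rintro _ ⟨v, ⟨hp, hv⟩, rfl⟩
  rw [SetLike.mem_coe, LinearMap.mem_ker, delta_ιMulti]
  refine Finset.sum_eq_zero fun σ _ => ?_
  induction σ using Quotient.inductionOn' with
  | h σ =>
    rw [AlternatingMap.domCoprod.summand_mk'']
    have hex : ∃ k : Fin q, g (v (finCongr hn (finSumFinEquiv (σ (Sum.inr k))))) = 0 := by
      by_contra hne
      rw [not_exists] at hne
      let S : Finset (Fin p ⊕ Fin q) := Finset.univ.filter fun i => ((finCongr hn (finSumFinEquiv i) : Fin n) : ℕ) < p + 1
      have hsub : S ⊆ Finset.univ.image fun j : Fin p => σ (Sum.inl j) := by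
        intro i hi
        obtain ⟨k, rfl⟩ := σ.surjective i
        rcases k with j | k
        · exact Finset.mem_image.2 ⟨j, Finset.mem_univ _, rfl⟩
        · exact absurd (g_eq_zero hgf (hv _ (Finset.mem_filter.1 hi).2)) (hne k)
      have hcard : p + 1 ≤ S.card := by
        let emb : Fin (p + 1) ↪ Fin p ⊕ Fin q :=
          (Fin.castLEEmb hp).trans (finSumFinEquiv.trans (finCongr hn)).symm.toEmbedding
        refine le_trans (le_of_eq (by simp)) (Finset.card_le_card (s := Finset.univ.map emb) ?_)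
        intro i hi
        obtain ⟨a, -, rfl⟩ := Finset.mem_map.1 hi
        refine Finset.mem_filter.2 ⟨Finset.mem_univ _, ?_⟩
        show (((finSumFinEquiv.trans (finCongr hn)) ((finSumFinEquiv.trans (finCongr hn)).symm (Fin.castLE hp a)) : Fin n) : ℕ) < p + 1
        rw [Equiv.apply_symm_apply]
        exact a.2
      have := hcard.trans ((Finset.card_le_card hsub).trans (Finset.card_image_le.trans (le_of_eq (Finset.card_fin p))))
      omega
    obtain ⟨k, hk⟩ := hex
    rw [_root_.smul_apply, MultilinearMap.domDomCongr_apply, MultilinearMap.domCoprod_apply]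
    have : (((ιMulti A q).compLinearMap g) : MultilinearMap A (fun _ : Fin q => E) (⋀[A]^q E''))
        (fun i => v (finCongr hn (finSumFinEquiv (σ (Sum.inr i))))) = 0 := by
      rw [AlternatingMap.coe_multilinearMap, AlternatingMap.compLinearMap_apply]
      exact (ιMulti A q).map_coord_zero k hk
    rw [this, TensorProduct.tmul_zero, smul_zero]

theorem delta_ιMulti_of_range {n p q : ℕ} (hn : p + q = n) {v : Fin n → E}
    (hv : ∀ i : Fin n, (i : ℕ) < p → v i ∈ LinearMap.range f) :
    delta r g hn (ιMulti A n v) = ιMulti A p (fun j => r (v (finCongr hn (Fin.castAdd q j)))) ⊗ₜ[A]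
      ιMulti A q (fun k => g (v (finCongr hn (Fin.natAdd p k)))) := by
  rw [delta_ιMulti]
  refine (Fintype.sum_eq_single (Quotient.mk'' 1) ?_).trans ?_
  swap
  · rw [AlternatingMap.domCoprod.summand_mk'', Equiv.Perm.sign_one, one_smul, MultilinearMap.domDomCongr_apply,
      MultilinearMap.domCoprod_apply]
    rfl
  · intro σ hσ
    induction σ using Quotient.inductionOn' with
    | h σ =>
      rw [AlternatingMap.domCoprod.summand_mk'']
      have hex : ∃ k : Fin q, ∃ j : Fin p, σ (Sum.inr k) = Sum.inl j := by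
        by_contra hne
        apply hσ
        refine Quotient.sound' (QuotientGroup.leftRel_apply.2 ?_)
        rw [mul_one]
        refine inv_mem (Equiv.Perm.mem_sumCongrHom_range_of_perm_mapsTo_inl
          ((Equiv.Perm.perm_mapsTo_inl_iff_mapsTo_inr σ).2 ?_))
        rintro _ ⟨k, rfl⟩
        rcases hk : σ (Sum.inr k) with j | k'
        · exact absurd ⟨k, j, hk⟩ hne
        · exact ⟨k', rfl⟩
      obtain ⟨k, j, hk⟩ := hex
      rw [_root_.smul_apply, MultilinearMap.domDomCongr_apply, MultilinearMap.domCoprod_apply]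
      have : (((ιMulti A q).compLinearMap g) : MultilinearMap A (fun _ : Fin q => E) (⋀[A]^q E''))
          (fun i => v (finCongr hn (finSumFinEquiv (σ (Sum.inr i))))) = 0 := by
        rw [AlternatingMap.coe_multilinearMap, AlternatingMap.compLinearMap_apply]
        refine (ιMulti A q).map_coord_zero k (g_eq_zero hgf (hv _ ?_))
        rw [hk, finSumFinEquiv_apply_left]
        simp
      rw [this, TensorProduct.tmul_zero, smul_zero]

/-- On `Fil` the projection does not depend on the retraction. -/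
theorem delta_congr {n p q : ℕ} (hn : p + q = n) (r' : E →ₗ[A] E') (hr : ∀ x, r (f x) = x)
    (hr' : ∀ x, r' (f x) = x) {x : ⋀[A]^n E} (hx : x ∈ Fil f n p) : delta r g hn x = delta r' g hn x := by
  refine (LinearMap.mem_eqLocus (f := delta r g hn) (g := delta r' g hn)).1
    ((Submodule.span_le (p := LinearMap.eqLocus _ _)).2 ?_ hx)
  rintro _ ⟨v, ⟨-, hv⟩, rfl⟩
  rw [SetLike.mem_coe, LinearMap.mem_eqLocus,
    delta_ιMulti_of_range r hgf hn hv, delta_ιMulti_of_range r' hgf hn hv]
  congr 2
  funext j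
  obtain ⟨y, hy⟩ := hv (finCongr hn (Fin.castAdd q j)) (by simp)
  rw [← hy, hr, hr']

omit hgf

theorem span_tmul_eq_top' (A : Type u) [CommRing A] {M N : Type u} [AddCommGroup M] [Module A M] [AddCommGroup N]
    [Module A N] {s : Set M} {t : Set N} (hs : Submodule.span A s = ⊤) (ht : Submodule.span A t = ⊤) :
    Submodule.span A (Set.image2 (fun a b => a ⊗ₜ[A] b) s t) = ⊤ := by
  refine top_unique fun z _ => ?_
  induction z using TensorProduct.induction_on with
  | zero => exact zero_mem _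
  | add x y hx hy => exact add_mem (hx trivial) (hy trivial)
  | tmul a b =>
    have := Submodule.apply_mem_map₂ (TensorProduct.mk A M N) (hs.symm ▸ Submodule.mem_top : a ∈ Submodule.span A s)
      (ht.symm ▸ Submodule.mem_top : b ∈ Submodule.span A t)
    rwa [Submodule.map₂_span_span] at this

/-- Wedge of decomposable elements. -/
theorem mul_mem_power {p q n : ℕ} (hn : p + q = n) (a : ⋀[A]^p E) (b : ⋀[A]^q E) :
    (a : ExteriorAlgebra A E) * (b : ExteriorAlgebra A E) ∈ ⋀[A]^n E := by
  subst hn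
  rw [ExteriorAlgebra.exteriorPower, pow_add]
  exact Submodule.mul_mem_mul a.2 b.2

/-- The wedge pairing. -/
noncomputable def wedge {p q n : ℕ} (hn : p + q = n) : ⋀[A]^p E →ₗ[A] ⋀[A]^q E →ₗ[A] ⋀[A]^n E :=
  LinearMap.mk₂ A (fun a b => ⟨(a : ExteriorAlgebra A E) * b, mul_mem_power hn a b⟩)
    (fun a a' b => Subtype.ext (by simp [add_mul]))
    (fun c a b => Subtype.ext (by simp))
    (fun a b b' => Subtype.ext (by simp [mul_add]))
    (fun c a b => Subtype.ext (by simp))

theorem wedge_ιMulti {p q n : ℕ} (hn : p + q = n) (a : Fin p → E) (b : Fin q → E) :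
    wedge hn (ιMulti A p a) (ιMulti A q b) = ιMulti A n (fun i => Fin.append a b (Fin.cast hn.symm i)) := by
  subst hn
  refine Subtype.ext ?_
  show ExteriorAlgebra.ιMulti A p a * ExteriorAlgebra.ιMulti A q b = ExteriorAlgebra.ιMulti A (p + q) _
  rw [ExteriorAlgebra.ιMulti_apply, ExteriorAlgebra.ιMulti_apply, ExteriorAlgebra.ιMulti_apply, ← List.prod_append,
    ← List.ofFn_fin_append]
  congr 2
  funext i
  induction i using Fin.addCases with
  | left j => simp
  | right j => simp

variable (f) (s : E'' →ₗ[A] E)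

/-- The section of the projection given by a splitting. -/
noncomputable def sigma {n p q : ℕ} (hn : p + q = n) : ⋀[A]^p E' ⊗[A] ⋀[A]^q E'' →ₗ[A] ⋀[A]^n E :=
  TensorProduct.lift ((wedge hn).compl₁₂ (exteriorPower.map p f) (exteriorPower.map q s))

theorem sigma_tmul {n p q : ℕ} (hn : p + q = n) (a : Fin p → E') (b : Fin q → E'') :
    sigma f s hn (ιMulti A p a ⊗ₜ[A] ιMulti A q b) =
      ιMulti A n (fun i => Fin.append (f ∘ a) (s ∘ b) (Fin.cast hn.symm i)) := by
  rw [sigma, TensorProduct.lift.tmul, LinearMap.compl₁₂_apply, map_apply_ιMulti, map_apply_ιMulti, wedge_ιMulti]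

variable {f}

theorem sigma_mem {n p q : ℕ} (hn : p + q = n) (t : ⋀[A]^p E' ⊗[A] ⋀[A]^q E'') :
    sigma f s hn t ∈ Fil f n p := by
  induction t using TensorProduct.induction_on with
  | zero => simp
  | add x y hx hy => rw [map_add]; exact add_mem hx hy
  | tmul a b =>
    have ha : a ∈ Submodule.span A (Set.range (ιMulti A p (M := E'))) := by rw [ιMulti_span]; trivial
    have hb : b ∈ Submodule.span A (Set.range (ιMulti A q (M := E''))) := by rw [ιMulti_span]; trivial
    induction ha using Submodule.span_induction with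
    | zero => simp
    | add x y _ _ hx hy => rw [TensorProduct.add_tmul, map_add]; exact add_mem hx hy
    | smul c x _ hx => rw [← TensorProduct.smul_tmul', map_smul]; exact Submodule.smul_mem _ _ hx
    | mem x hx =>
      obtain ⟨a, rfl⟩ := hx
      induction hb using Submodule.span_induction with
      | zero => simp
      | add x y _ _ hx hy => rw [TensorProduct.tmul_add, map_add]; exact add_mem hx hy
      | smul c x _ hx => rw [TensorProduct.tmul_smul, map_smul]; exact Submodule.smul_mem _ _ hx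
      | mem x hx =>
        obtain ⟨b, rfl⟩ := hx
        rw [sigma_tmul]
        refine ιMulti_mem_Fil (hn ▸ Nat.le_add_right p q) fun i hi => ?_
        obtain ⟨j, hj⟩ : ∃ j : Fin p, Fin.cast hn.symm i = Fin.castAdd q j := ⟨⟨i, hi⟩, Fin.ext rfl⟩
        rw [hj, Fin.append_left]
        exact ⟨a j, rfl⟩

include hgf

theorem delta_sigma {n p q : ℕ} (hn : p + q = n) (hr : ∀ x, r (f x) = x) (hs : ∀ y, g (s y) = y)
    (t : ⋀[A]^p E' ⊗[A] ⋀[A]^q E'') : delta r g hn (sigma f s hn t) = t := by
  have hspan : ∀ x : ⋀[A]^p E' ⊗[A] ⋀[A]^q E'', x ∈ Submodule.span A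
      (Set.range fun ab : (Fin p → E') × (Fin q → E'') => ιMulti A p ab.1 ⊗ₜ[A] ιMulti A q ab.2) := fun x => by
    have := span_tmul_eq_top' A (ιMulti_span A p E') (ιMulti_span A q E'')
    rw [Set.image2_range] at this
    rw [this]; trivial
  refine (LinearMap.mem_eqLocus (f := delta r g hn ∘ₗ sigma f s hn) (g := LinearMap.id)).1
    ((Submodule.span_le (p := LinearMap.eqLocus _ _)).2 ?_ (hspan t))
  rintro _ ⟨⟨a, b⟩, rfl⟩
  rw [SetLike.mem_coe, LinearMap.mem_eqLocus]
  show delta r g hn (sigma f s hn (ιMulti A p a ⊗ₜ[A] ιMulti A q b)) = ιMulti A p a ⊗ₜ[A] ιMulti A q b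
  rw [sigma_tmul, delta_ιMulti_of_range r hgf hn]
  · congr 2 <;> funext j <;> simp [hr, hs]
  · intro i hi
    obtain ⟨j, hj⟩ : ∃ j : Fin p, Fin.cast hn.symm i = Fin.castAdd q j := ⟨⟨i, hi⟩, Fin.ext rfl⟩
    rw [hj, Fin.append_left]
    exact ⟨a j, rfl⟩

/-- For a split sequence, the kernel of the projection on `Fil p` is `Fil (p + 1)`. -/
theorem mem_Fil_succ_iff {n p q : ℕ} (hn : p + q = n) (hr : ∀ x, r (f x) = x) (hs : ∀ y, g (s y) = y)
    (hk : ∀ x, g x = 0 → x ∈ LinearMap.range f) {x : ⋀[A]^n E} (hx : x ∈ Fil f n p) :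
    x ∈ Fil f n (p + 1) ↔ delta r g hn x = 0 := by
  refine ⟨delta_eq_zero r hgf hn, fun h0 => ?_⟩
  suffices h : x - sigma f s hn (delta r g hn x) ∈ Fil f n (p + 1) by rwa [h0, map_zero, sub_zero] at h
  refine (Submodule.mem_comap (f := LinearMap.id - sigma f s hn ∘ₗ delta r g hn)).1
    ((Submodule.span_le (p := Submodule.comap _ (Fil f n (p + 1)))).2 ?_ hx)
  rintro _ ⟨v, ⟨-, hv⟩, rfl⟩
  rw [SetLike.mem_coe, Submodule.mem_comap, LinearMap.sub_apply, LinearMap.id_apply, LinearMap.comp_apply,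
    delta_ιMulti_of_range r hgf hn hv, sigma_tmul]
  refine sub_mem_Fil hv (fun i hi => ?_) (fun i hi => ?_)
  · obtain ⟨j, hj⟩ : ∃ j : Fin p, Fin.cast hn.symm i = Fin.castAdd q j := ⟨⟨i, hi⟩, Fin.ext rfl⟩
    have hij : finCongr hn (Fin.castAdd q j) = i := by rw [← hj]; exact Fin.ext rfl
    rw [hj, Fin.append_left, Function.comp_apply, hij]
    obtain ⟨y, hy⟩ := hv i hi
    rw [← hy, hr]
  · obtain ⟨k, hk'⟩ : ∃ k : Fin q, Fin.cast hn.symm i = Fin.natAdd p k :=
      ⟨⟨i - p, by omega⟩, Fin.ext (by simp; omega)⟩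
    have hik : finCongr hn (Fin.natAdd p k) = i := by rw [← hk']; exact Fin.ext rfl
    rw [hk', Fin.append_right, Function.comp_apply, hik]
    exact hk _ (by rw [map_sub, hs, sub_self])

omit hgf

section Map

variable {B F' F F'' : Type u} [CommRing B] [AddCommGroup F'] [Module B F'] [AddCommGroup F] [Module B F]
  [AddCommGroup F''] [Module B F'']

/-- Semilinear restriction maps respect `Fil`. -/
theorem map_mem_Fil {f₁ : F' →ₗ[B] F} {n p : ℕ} (σ : A →+* B) (a : E' → F') (e : E → F)
    (ρ : (⋀[A]^n E) →+ (⋀[B]^n F)) (hρs : ∀ (c : A) x, ρ (c • x) = σ c • ρ x)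
    (hρ : ∀ v, ρ (ιMulti A n v) = ιMulti B n fun i => e (v i)) (hf : ∀ x, e (f x) = f₁ (a x))
    {x : ⋀[A]^n E} (hx : x ∈ Fil f n p) : ρ x ∈ Fil f₁ n p := by
  induction hx using Submodule.span_induction with
  | zero => rw [map_zero]; exact zero_mem _
  | add x y _ _ hx hy => rw [map_add]; exact add_mem hx hy
  | smul c x _ hx => rw [hρs]; exact Submodule.smul_mem _ _ hx
  | mem x hx =>
    obtain ⟨v, ⟨hp, hv⟩, rfl⟩ := hx
    rw [hρ]
    exact ιMulti_mem_Fil hp fun i hi => by
      obtain ⟨y, hy⟩ := hv i hi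
      exact ⟨a y, by rw [← hf, hy]⟩

/-- Semilinear restriction maps commute with the projection on `Fil`. -/
theorem map_delta {f₁ : F' →ₗ[B] F} {g₁ : F →ₗ[B] F''} (hgf : ∀ x, g (f x) = 0) (hgf₁ : ∀ x, g₁ (f₁ x) = 0)
    (r₁ : F →ₗ[B] F') (hr : ∀ x, r (f x) = x) (hr₁ : ∀ x, r₁ (f₁ x) = x) {n p q : ℕ} (hn : p + q = n)
    (σ : A →+* B) (a : E' → F') (e : E → F) (c : E'' → F'')
    (hf : ∀ x, e (f x) = f₁ (a x)) (hg : ∀ x, c (g x) = g₁ (e x))
    (ρ : (⋀[A]^n E) →+ (⋀[B]^n F)) (hρs : ∀ (c : A) x, ρ (c • x) = σ c • ρ x)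
    (hρ : ∀ v, ρ (ιMulti A n v) = ιMulti B n fun i => e (v i))
    (τ : (⋀[A]^p E' ⊗[A] ⋀[A]^q E'') →+ (⋀[B]^p F' ⊗[B] ⋀[B]^q F''))
    (hτs : ∀ (c : A) x, τ (c • x) = σ c • τ x)
    (hτ : ∀ u w, τ (ιMulti A p u ⊗ₜ[A] ιMulti A q w) = ιMulti B p (fun i => a (u i)) ⊗ₜ[B] ιMulti B q (fun i => c (w i)))
    {x : ⋀[A]^n E} (hx : x ∈ Fil f n p) : τ (delta r g hn x) = delta r₁ g₁ hn (ρ x) := by
  induction hx using Submodule.span_induction with
  | zero => simp
  | add x y _ _ hx hy => simp only [map_add, hx, hy]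
  | smul c x _ hx => rw [map_smul, hτs, hx, hρs, map_smul]
  | mem x hx =>
    obtain ⟨v, ⟨hp, hv⟩, rfl⟩ := hx
    have hv₁ : ∀ i : Fin n, (i : ℕ) < p → e (v i) ∈ LinearMap.range f₁ := fun i hi => by
      obtain ⟨y, hy⟩ := hv i hi
      exact ⟨a y, by rw [← hf, hy]⟩
    rw [hρ, delta_ιMulti_of_range r hgf hn hv, delta_ιMulti_of_range r₁ hgf₁ hn hv₁, hτ]
    congr 2
    · funext j
      obtain ⟨y, hy⟩ := hv (finCongr hn (Fin.castAdd q j)) (by simp)
      rw [← hy, hr, hf, hr₁]
    · funext k
      rw [hg]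

end Map

end Groth.Agent.ExtFil4
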