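import Groth.Agent.Lib.ExtFil4.Uniq
import Groth.Agent.Lib.CurveCoh17.TensorExact
import Groth.Agent.Lib.TensorNat17.Basic
import Groth.Prelude.Def_SGA6
import Mathlib.RingTheory.PowerSeries.Inverse

/-!
# The ring `K₀` of finite locally free modules and its exterior power operations
-/

set_option autoImplicit false
set_option linter.style.haveILetI false
set_option backward.isDefEq.respectTransparency false
set_option backward.isDefEq.respectTransparency.types false

universe u

open CategoryTheory Limits AlgebraicGeometry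

noncomputable section

namespace Groth.Agent.ExtFil4

variable {X : Scheme.{u}}

/-- The property. -/
abbrev VB (X : Scheme.{u}) : ObjectProperty X.Modules := fun M : X.Modules => FlatMod.IsFinLocFree M

/-- The class of a module. -/
abbrev cl (M : X.Modules) : SGA6.Kvb X := KZero.clSub (VB X) M

theorem isVB_of_isZero {Z : X.Modules} (hZ : IsZero Z) : FlatMod.IsFinLocFree Z := KFlat.Sch.isFinLocFree_of_isZero hZ

theorem cl_iso {A B : X.Modules} (e : A ≅ B) (hA : FlatMod.IsFinLocFree A) : cl A = cl B := by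
  have hZ : IsZero (cokernel (𝟙 A)) := isZero_cokernel_of_epi _
  have h : (ShortComplex.mk e.hom (0 : B ⟶ cokernel (𝟙 A)) comp_zero).ShortExact :=
    ShortComplex.shortExact_of_iso
      (ShortComplex.isoMk (S₁ := ShortComplex.mk (𝟙 A) (0 : A ⟶ cokernel (𝟙 A)) comp_zero)
        (Iso.refl _) e (Iso.refl _) (by simp) (by simp))
      (K0Cat.shortExact_id_zero hZ)
  have := K0Cat.clSub_ses (P := VB X) _ h hA (M2.isFinLocFree_of_iso e hA) (isVB_of_isZero hZ)
  simpa [K0Cat.clSub_of_isZero (P := VB X) hZ (isVB_of_isZero hZ)] using this.symm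

theorem isVB_one : FlatMod.IsFinLocFree (Coh.structureModule X) :=
  M2.isFinLocFree_of_iso (coproductUniqueIso (fun _ : Fin 1 => Coh.structureModule X))
    (KFlat.Sch.isFinLocFree_freeMod X 1)

theorem flat_stalk {M : X.Modules} (h : FlatMod.IsFinLocFree M) (x : X) :
    Module.Flat (X.presheaf.stalk x) (M.presheaf.stalk x) :=
  haveI := ((M1.isFinLocFree_iff M).1 h).2 x
  Module.Flat.of_free

/-- The class of `E ⊗ F` as a function of `F`. -/
def mulRight (E : Subtype (VB X)) : SGA6.Kvb X →+ SGA6.Kvb X :=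
  K0Cat.liftSub (P := VB X) (fun F => cl (CohB1.tensorMod F.1 E.1)) fun S h₁ h₂ h₃ hS => by
    exact K0Cat.clSub_ses (P := VB X) _ (CurveCoh17.shortExact_tensorR hS E.1 (flat_stalk E.2))
      (M2.isFinLocFree_tensor h₁ E.2) (M2.isFinLocFree_tensor h₂ E.2) (M2.isFinLocFree_tensor h₃ E.2)

theorem mulRight_cl (E : Subtype (VB X)) {F : X.Modules} (hF : FlatMod.IsFinLocFree F) :
    mulRight E (cl F) = cl (CohB1.tensorMod F E.1) := by
  show K0Cat.liftSub _ _ (KZero.clSub (VB X) F) = _
  rw [K0Cat.liftSub_clSub _ _ hF]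

theorem cl_tensor_comm {E F : X.Modules} (hE : FlatMod.IsFinLocFree E) (hF : FlatMod.IsFinLocFree F) :
    cl (CohB1.tensorMod E F) = cl (CohB1.tensorMod F E) :=
  cl_iso (M2.tensorComm E F) (M2.isFinLocFree_tensor hE hF)

/-- The product. -/
def mul (X : Scheme.{u}) : SGA6.Kvb X →+ SGA6.Kvb X →+ SGA6.Kvb X :=
  K0Cat.liftSub (P := VB X) mulRight fun S h₁ h₂ h₃ hS => by
    refine AddMonoidHom.ext fun x => ?_
    induction x using K0Cat.clSub_induction with
    | h0 => simp
    | hcl F hF =>
      rw [AddMonoidHom.add_apply]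
      erw [mulRight_cl ⟨S.X₂, h₂⟩ hF, mulRight_cl ⟨S.X₁, h₁⟩ hF, mulRight_cl ⟨S.X₃, h₃⟩ hF]
      rw [cl_tensor_comm hF h₁, cl_tensor_comm hF h₂, cl_tensor_comm hF h₃]
      exact K0Cat.clSub_ses (P := VB X) _ (CurveCoh17.shortExact_tensorR hS F (flat_stalk hF))
        (M2.isFinLocFree_tensor h₁ hF) (M2.isFinLocFree_tensor h₂ hF) (M2.isFinLocFree_tensor h₃ hF)
    | hneg a ha => rw [map_neg, map_neg, ha]
    | hadd a b ha hb => rw [map_add, map_add, ha, hb]

theorem mul_cl {E F : X.Modules} (hE : FlatMod.IsFinLocFree E) (hF : FlatMod.IsFinLocFree F) :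
    mul X (cl E) (cl F) = cl (CohB1.tensorMod E F) := by
  unfold mul cl
  rw [K0Cat.liftSub_clSub _ _ hE]
  exact (mulRight_cl ⟨E, hE⟩ hF).trans (cl_tensor_comm hF hE)

theorem mul_comm' (x y : SGA6.Kvb X) : mul X x y = mul X y x := by
  induction x using K0Cat.clSub_induction with
  | h0 => simp
  | hcl E hE =>
    induction y using K0Cat.clSub_induction with
    | h0 => simp
    | hcl F hF => rw [mul_cl hE hF, mul_cl hF hE]; exact cl_tensor_comm hE hF
    | hneg a ha => rw [map_neg, ha, map_neg, AddMonoidHom.neg_apply]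
    | hadd a b ha hb => rw [map_add, ha, hb, map_add, AddMonoidHom.add_apply]
  | hneg a ha => rw [map_neg, AddMonoidHom.neg_apply, ha, map_neg]
  | hadd a b ha hb => rw [map_add, AddMonoidHom.add_apply, ha, hb, map_add]

theorem mul_assoc' (x y z : SGA6.Kvb X) : mul X (mul X x y) z = mul X x (mul X y z) := by
  induction x using K0Cat.clSub_induction with
  | h0 => simp
  | hneg a ha => simp only [map_neg, AddMonoidHom.neg_apply, ha]
  | hadd a b ha hb => simp only [map_add, AddMonoidHom.add_apply, ha, hb]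
  | hcl E hE =>
    induction y using K0Cat.clSub_induction with
    | h0 => simp
    | hneg a ha => simp only [map_neg, AddMonoidHom.neg_apply, ha]
    | hadd a b ha hb => simp only [map_add, AddMonoidHom.add_apply, ha, hb]
    | hcl F hF =>
      induction z using K0Cat.clSub_induction with
      | h0 => simp
      | hneg a ha => simp only [map_neg, ha]
      | hadd a b ha hb => simp only [map_add, ha, hb]
      | hcl G hG =>
        have hEF := M2.isFinLocFree_tensor hE hF
        rw [mul_cl hE hF, mul_cl hEF hG, mul_cl hF hG, mul_cl hE (M2.isFinLocFree_tensor hF hG)]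
        exact cl_iso (M2.tensorAssoc E F G) (M2.isFinLocFree_tensor hEF hG)

theorem one_mul' (x : SGA6.Kvb X) : mul X (cl (Coh.structureModule X)) x = x := by
  induction x using K0Cat.clSub_induction with
  | h0 => simp
  | hneg a ha => rw [map_neg, ha]
  | hadd a b ha hb => rw [map_add, ha, hb]
  | hcl F hF =>
    rw [mul_cl isVB_one hF]
    exact cl_iso (M2.tensorLUnit F) (M2.isFinLocFree_tensor isVB_one hF)

/-- The ring structure on `K₀`. -/
@[reducible] def kvbRing (X : Scheme.{u}) : CommRing (SGA6.Kvb X) :=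
  { (inferInstance : AddCommGroup (SGA6.Kvb X)) with
    mul := fun x y => mul X x y
    one := cl (Coh.structureModule X)
    left_distrib := fun a b c => map_add (mul X a) b c
    right_distrib := fun a b c => by
      show mul X (a + b) c = mul X a c + mul X b c
      rw [map_add, AddMonoidHom.add_apply]
    zero_mul := fun a => by
      show mul X 0 a = 0
      rw [map_zero, AddMonoidHom.zero_apply]
    mul_zero := fun a => map_zero (mul X a)
    mul_assoc := mul_assoc'
    one_mul := one_mul'
    mul_one := fun a => (mul_comm' _ _).trans (one_mul' a)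
    mul_comm := mul_comm' }

/-- Every finite locally free module has exterior powers. -/
def HasExt (X : Scheme.{u}) : Prop :=
  ∀ (i : ℕ) (E : X.Modules), FlatMod.IsFinLocFree E → ∃ L : X.Modules, FlatMod.IsFinLocFree L ∧ ExtPow.IsExtPow i E L

variable (hext : HasExt X)

/-- A chosen exterior power. -/
def ext' (i : ℕ) (E : Subtype (VB X)) : X.Modules := (hext i E.1 E.2).choose

theorem ext'_spec (i : ℕ) (E : Subtype (VB X)) :
    FlatMod.IsFinLocFree (ext' hext i E) ∧ ExtPow.IsExtPow i E.1 (ext' hext i E) := (hext i E.1 E.2).choose_spec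

theorem cl_extPow {i : ℕ} {E : X.Modules} (hE : FlatMod.IsFinLocFree E) {L : X.Modules}
    (hL : ExtPow.IsExtPow i E L) : cl (ext' hext i ⟨E, hE⟩) = cl L :=
  cl_iso (isoExtPow (ext'_spec hext i ⟨E, hE⟩).2 hL).some (ext'_spec hext i ⟨E, hE⟩).1

/-- The exterior power series of a module. -/
def series (E : Subtype (VB X)) : PowerSeries (SGA6.Kvb X) := PowerSeries.mk fun i => cl (ext' hext i E)

include hext in
theorem exists_lam : ∃ lam : ℕ → SGA6.Kvb X → SGA6.Kvb X, SGA6.IsLambdaStructureVb X (mul X) lam := by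
  letI := kvbRing X
  have hu : ∀ E, IsUnit (series hext E) := fun E => by
    rw [PowerSeries.isUnit_iff_constantCoeff, ← PowerSeries.coeff_zero_eq_constantCoeff_apply, series,
      PowerSeries.coeff_mk, show cl (ext' hext 0 E) = (1 : SGA6.Kvb X) from cl_extPow hext E.2 (isExtPow_zero E.1)]
    exact isUnit_one
  let Φ : SGA6.Kvb X →+ Additive (PowerSeries (SGA6.Kvb X))ˣ :=
    K0Cat.liftSub (P := VB X) (fun E => Additive.ofMul (hu E).unit) fun S h₁ h₂ h₃ hS => by
      rw [← ofMul_mul]
      refine congrArg Additive.ofMul (Units.ext ?_)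
      simp only [Units.val_mul, IsUnit.unit_spec]
      refine PowerSeries.ext fun n => ?_
      rw [PowerSeries.coeff_mul, Finset.Nat.sum_antidiagonal_eq_sum_range_succ_mk]
      simp only [series, PowerSeries.coeff_mk]
      refine (clSub_extPow S hS h₂ h₃ _ _ _ (fun i => ext'_spec hext i ⟨S.X₁, h₁⟩)
        (fun i => ext'_spec hext i ⟨S.X₂, h₂⟩) (fun i => ext'_spec hext i ⟨S.X₃, h₃⟩) n).trans ?_
      exact Finset.sum_congr rfl fun i _ => (mul_cl (ext'_spec hext i _).1 (ext'_spec hext (n - i) _).1).symm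
  have hΦ : ∀ (E : X.Modules) (hE : FlatMod.IsFinLocFree E),
      ((Φ (cl E)).toMul : PowerSeries (SGA6.Kvb X)) = series hext ⟨E, hE⟩ := fun E hE => by
    have e : Φ (cl E) = Additive.ofMul (hu ⟨E, hE⟩).unit := K0Cat.liftSub_clSub _ _ hE
    rw [e]
    exact (hu ⟨E, hE⟩).unit_spec
  let lam : ℕ → SGA6.Kvb X → SGA6.Kvb X := fun i x => PowerSeries.coeff i ((Φ x).toMul : PowerSeries (SGA6.Kvb X))
  have hadd : ∀ k x y, lam k (x + y) = ∑ i ∈ Finset.range (k + 1), lam i x * lam (k - i) y := fun k x y => by
    simp only [lam, map_add, toMul_add, Units.val_mul, PowerSeries.coeff_mul,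
      Finset.Nat.sum_antidiagonal_eq_sum_range_succ_mk]
  have hzero : ∀ k, lam k 0 = if k = 0 then 1 else 0 := fun k => by
    simp [lam, PowerSeries.coeff_one]
  have h0 : ∀ x, lam 0 x = 1 := fun x => by
    induction x using K0Cat.clSub_induction with
    | h0 => simp [hzero]
    | hcl E hE =>
      show PowerSeries.coeff 0 ((Φ (cl E)).toMul : PowerSeries (SGA6.Kvb X)) = 1
      rw [hΦ E hE, series, PowerSeries.coeff_mk]
      exact cl_extPow hext hE (isExtPow_zero E)
    | hneg a ha =>
      have := hadd 0 a (-a)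
      rw [add_neg_cancel, hzero] at this
      simpa [ha] using this.symm
    | hadd a b ha hb => simp [hadd, ha, hb]
  have h1 : ∀ x, lam 1 x = x := fun x => by
    induction x using K0Cat.clSub_induction with
    | h0 => simp [hzero]
    | hcl E hE =>
      show PowerSeries.coeff 1 ((Φ (cl E)).toMul : PowerSeries (SGA6.Kvb X)) = cl E
      rw [hΦ E hE, series, PowerSeries.coeff_mk]
      exact cl_extPow hext hE (isExtPow_one E)
    | hneg a ha =>
      have h2 := hadd 1 a (-a)
      rw [add_neg_cancel, hzero] at h2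
      simp only [Finset.sum_range_succ, Finset.sum_range_zero, h0, ha, one_ne_zero, if_false] at h2
      simp only [Nat.sub_self, h0, Nat.sub_zero, one_mul, mul_one, zero_add] at h2
      exact eq_neg_of_add_eq_zero_left h2.symm
    | hadd a b ha hb =>
      rw [hadd]
      simp [Finset.sum_range_succ, h0, ha, hb, add_comm]
  exact ⟨lam, mul_comm', mul_assoc', one_mul', fun E F hE hF => mul_cl hE hF,
    fun i E L hE hL => by
      show PowerSeries.coeff i ((Φ (cl E)).toMul : PowerSeries (SGA6.Kvb X)) = cl L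
      rw [hΦ E hE, series, PowerSeries.coeff_mk]
      exact cl_extPow hext hE hL,
    h0, h1, hadd⟩

end Groth.Agent.ExtFil4
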