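import Groth.Agent.Lib.ExtFil4.Alg
import Groth.Agent.Lib.KoszShH13.Cx
import Groth.Agent.Lib.KoszShH13.Glue
import Groth.Agent.Lib.CBC10.TensorSec
import Groth.Agent.Lib.RankStratum13.Basic
import Groth.Agent.Lib.TensorMod.Invertible
import Groth.Agent.Lib.DPerf.Top
import Groth.Agent.Lib.K0Cat.Basic
import Groth.Prelude.Def_ExtPow2

/-!
# The class of an exterior power of an extension of locally free modules

The exterior power of the middle term has a filtration with graded pieces `Λ^p E' ⊗ Λ^q E''`.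
-/

set_option autoImplicit false
set_option linter.style.haveILetI false
set_option backward.isDefEq.respectTransparency false
set_option backward.isDefEq.respectTransparency.types false
set_option maxHeartbeats 800000

universe u

open CategoryTheory Limits AlgebraicGeometry Opposite TopologicalSpace TensorProduct exteriorPower

namespace Groth.Agent.ExtFil4

open KoszShH13 (appLin appLin_apply IsAffBasis isAffBasis_top exists_glue hom_ext_basis)

variable {X : Scheme.{u}}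

/-- The local comparisons defining an exterior power, with their compatibility with restriction. -/
theorem exists_phi {i : ℕ} {E L : X.Modules} (h : ExtPow.IsExtPow i E L) :
    ∃ φ : ∀ U : X.affineOpens, Γ(L, U.1) ≃ₗ[Γ(X, U.1)] ↥(⋀[Γ(X, U.1)]^i Γ(E, U.1)),
      ∀ (U V : X.affineOpens) (h : V.1 ≤ U.1) (e : Fin i → Γ(E, U.1)),
        M1.mres L h ((φ U).symm (ιMulti _ i e)) = (φ V).symm (ιMulti _ i fun j => M1.mres E h (e j)) := h

theorem res_smul {M : X.Modules} {U V : X.Opens} (h : V ≤ U) (c : Γ(X, U)) (m : Γ(M, U)) :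
    M1.mres M h (c • m) = (M1.ores h).hom c • M1.mres M h m := M1.mres_smul M h c m

/-- Restriction read through the local comparison. -/
noncomputable def rho {i : ℕ} {E L : X.Modules}
    (φ : ∀ U : X.affineOpens, Γ(L, U.1) ≃ₗ[Γ(X, U.1)] ↥(⋀[Γ(X, U.1)]^i Γ(E, U.1))) (U V : X.affineOpens)
    (h : V.1 ≤ U.1) : ↥(⋀[Γ(X, U.1)]^i Γ(E, U.1)) →+ ↥(⋀[Γ(X, V.1)]^i Γ(E, V.1)) :=
  (φ V).toLinearMap.toAddMonoidHom.comp
    ((AddCommGrpCat.Hom.hom (M1.mres L h)).comp (φ U).symm.toLinearMap.toAddMonoidHom)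

theorem rho_apply {i : ℕ} {E L : X.Modules}
    (φ : ∀ U : X.affineOpens, Γ(L, U.1) ≃ₗ[Γ(X, U.1)] ↥(⋀[Γ(X, U.1)]^i Γ(E, U.1))) (U V : X.affineOpens)
    (h : V.1 ≤ U.1) (x) : rho φ U V h x = φ V (M1.mres L h ((φ U).symm x)) := rfl

theorem rho_smul {i : ℕ} {E L : X.Modules}
    (φ : ∀ U : X.affineOpens, Γ(L, U.1) ≃ₗ[Γ(X, U.1)] ↥(⋀[Γ(X, U.1)]^i Γ(E, U.1))) (U V : X.affineOpens)
    (h : V.1 ≤ U.1) (c : Γ(X, U.1)) (x) : rho φ U V h (c • x) = (M1.ores h).hom c • rho φ U V h x := by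
  rw [rho_apply, rho_apply, map_smul, res_smul, map_smul]

section Local

variable {S : ShortComplex X.Modules} {L' L L'' : X.Modules} {p q n : ℕ}
  (φ' : ∀ U : X.affineOpens, Γ(L', U.1) ≃ₗ[Γ(X, U.1)] ↥(⋀[Γ(X, U.1)]^p Γ(S.X₁, U.1)))
  (φ'' : ∀ U : X.affineOpens, Γ(L'', U.1) ≃ₗ[Γ(X, U.1)] ↥(⋀[Γ(X, U.1)]^q Γ(S.X₃, U.1)))

/-- Sections of `L' ⊗ L''` from the tensor product of the exterior powers. -/
noncomputable def tens (U : X.affineOpens) :
    ↥(⋀[Γ(X, U.1)]^p Γ(S.X₁, U.1)) ⊗[Γ(X, U.1)] ↥(⋀[Γ(X, U.1)]^q Γ(S.X₃, U.1)) →ₗ[Γ(X, U.1)]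
      Γ(CohB1.tensorMod L' L'', U.1) :=
  (CBC10.secTensor L' L'').comp (TensorProduct.map (φ' U).symm.toLinearMap (φ'' U).symm.toLinearMap)

theorem bijective_tens (hL' : Coh.IsQCoh L') (hL'' : Coh.IsQCoh L'') (U : X.affineOpens) :
    Function.Bijective (tens φ' φ'' U) :=
  (CBC10.bijective_secTensor L' L'' hL' hL'' U.2).comp
    (TensorProduct.congr (φ' U).symm (φ'' U).symm).bijective

theorem res_tens
    (hφ' : ∀ (U V : X.affineOpens) (h : V.1 ≤ U.1) (e : Fin p → Γ(S.X₁, U.1)),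
      M1.mres L' h ((φ' U).symm (ιMulti _ p e)) = (φ' V).symm (ιMulti _ p fun j => M1.mres S.X₁ h (e j)))
    (hφ'' : ∀ (U V : X.affineOpens) (h : V.1 ≤ U.1) (e : Fin q → Γ(S.X₃, U.1)),
      M1.mres L'' h ((φ'' U).symm (ιMulti _ q e)) = (φ'' V).symm (ιMulti _ q fun j => M1.mres S.X₃ h (e j)))
    (U V : X.affineOpens) (h : V.1 ≤ U.1) (a : Fin p → Γ(S.X₁, U.1)) (b : Fin q → Γ(S.X₃, U.1)) :
    M1.mres (CohB1.tensorMod L' L'') h (tens φ' φ'' U (ιMulti _ p a ⊗ₜ ιMulti _ q b)) =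
      tens φ' φ'' V (ιMulti _ p (fun j => M1.mres S.X₁ h (a j)) ⊗ₜ ιMulti _ q (fun j => M1.mres S.X₃ h (b j))) := by
  simp only [tens, LinearMap.comp_apply, TensorProduct.map_tmul, CBC10.secTensor_tmul]
  refine (M2.res_tsec (M := L') (N := L'') h _ _).trans ?_
  exact congrArg₂ (M2.tsec L' L'') (hφ' U V h a) (hφ'' U V h b)

variable {φ : ∀ U : X.affineOpens, Γ(L, U.1) ≃ₗ[Γ(X, U.1)] ↥(⋀[Γ(X, U.1)]^n Γ(S.X₂, U.1))}

/-- A splitting of the sections over an open. -/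
structure Split (S : ShortComplex X.Modules) (U : X.Opens) where
  r : Γ(S.X₂, U) →ₗ[Γ(X, U)] Γ(S.X₁, U)
  s : Γ(S.X₃, U) →ₗ[Γ(X, U)] Γ(S.X₂, U)
  hr : ∀ x, r (appLin S.f U x) = x
  hs : ∀ y, appLin S.g U (s y) = y

theorem hgf (S : ShortComplex X.Modules) (U : X.Opens) (x : Γ(S.X₁, U)) : appLin S.g U (appLin S.f U x) = 0 := by
  show (S.f ≫ S.g).app U x = 0
  rw [S.zero]
  rfl

theorem hker (hS : S.ShortExact) (U : X.Opens) (x : Γ(S.X₂, U)) (hx : appLin S.g U x = 0) :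
    x ∈ LinearMap.range (appLin S.f U) := by
  have := hS.mono_f
  obtain ⟨a, ha⟩ := M1.sections_exact hS.exact U x hx
  exact ⟨a, ha⟩

theorem nonempty_split (hS : S.ShortExact) (h₁ : Coh.IsQCoh S.X₂) (h₃ : Coh.IsQCoh S.X₃) (U : X.affineOpens)
    (hP : Module.Free Γ(X, U.1) Γ(S.X₃, U.1)) : Nonempty (Split S U.1) := by
  have := hS.mono_f
  have := hS.epi_g
  have hsurj : Function.Surjective (appLin S.g U.1) := M1.app_surjective_affine_of_isQCoh h₁ h₃ S.g U.2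
  obtain ⟨s, hs⟩ := Module.projective_lifting_property (appLin S.g U.1) LinearMap.id hsurj
  have hs' : ∀ y, appLin S.g U.1 (s y) = y := fun y => LinearMap.congr_fun hs y
  have hinj : Function.Injective (appLin S.f U.1) := M1.app_injective S.f U.1
  let π : Γ(S.X₂, U.1) →ₗ[Γ(X, U.1)] LinearMap.range (appLin S.f U.1) :=
    (LinearMap.id - s.comp (appLin S.g U.1)).codRestrict _ fun x =>
      hker hS U.1 _ (by rw [LinearMap.sub_apply, map_sub, LinearMap.comp_apply, hs', LinearMap.id_apply, sub_self])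
  refine ⟨⟨(LinearEquiv.ofInjective _ hinj).symm.toLinearMap.comp π, s, fun x => ?_, hs'⟩⟩
  rw [LinearMap.comp_apply, LinearEquiv.coe_coe, LinearEquiv.symm_apply_eq]
  refine Subtype.ext ?_
  show appLin S.f U.1 x - s (appLin S.g U.1 (appLin S.f U.1 x)) = appLin S.f U.1 x
  rw [hgf, map_zero, sub_zero]

variable (φ) in
/-- A submodule of `L` whose sections on the affine opens in `P` are a step of the filtration. -/
def IsStep (P : X.affineOpens → Prop) (k : ℕ) {F : X.Modules} (ι : F ⟶ L) : Prop :=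
  ∀ U, P U → ∀ m : Γ(L, U.1), (∃ a, ι.app U.1 a = m) ↔ φ U m ∈ Fil (appLin S.f U.1) n k

theorem exists_step (hS : S.ShortExact) (hX₃ : Coh.IsQCoh S.X₃) (hX₂ : Coh.IsQCoh S.X₂)
    (hL' : FlatMod.IsFinLocFree L') (hL'' : FlatMod.IsFinLocFree L'')
    (hφ : ∀ (U V : X.affineOpens) (h : V.1 ≤ U.1) (e : Fin n → Γ(S.X₂, U.1)),
      M1.mres L h ((φ U).symm (ιMulti _ n e)) = (φ V).symm (ιMulti _ n fun j => M1.mres S.X₂ h (e j)))
    (hφ' : ∀ (U V : X.affineOpens) (h : V.1 ≤ U.1) (e : Fin p → Γ(S.X₁, U.1)),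
      M1.mres L' h ((φ' U).symm (ιMulti _ p e)) = (φ' V).symm (ιMulti _ p fun j => M1.mres S.X₁ h (e j)))
    (hφ'' : ∀ (U V : X.affineOpens) (h : V.1 ≤ U.1) (e : Fin q → Γ(S.X₃, U.1)),
      M1.mres L'' h ((φ'' U).symm (ιMulti _ q e)) = (φ'' V).symm (ιMulti _ q fun j => M1.mres S.X₃ h (e j)))
    (hn : p + q = n) {P : X.affineOpens → Prop} (hP : IsAffBasis P)
    (hPfree : ∀ U, P U → Module.Free Γ(X, U.1) Γ(S.X₃, U.1))
    {F : X.Modules} (hF : FlatMod.IsFinLocFree F) (ι : F ⟶ L) [Mono ι] (hι : IsStep φ P p ι) :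
    ∃ (K : X.Modules) (ι' : K ⟶ L), Mono ι' ∧ FlatMod.IsFinLocFree K ∧ IsStep φ P (p + 1) ι' ∧
      KZero.clSub (fun M : X.Modules => FlatMod.IsFinLocFree M) F =
        KZero.clSub (fun M : X.Modules => FlatMod.IsFinLocFree M) K +
          KZero.clSub (fun M : X.Modules => FlatMod.IsFinLocFree M) (CohB1.tensorMod L' L'') := by
  let T := CohB1.tensorMod L' L''
  have hT : FlatMod.IsFinLocFree T := M2.isFinLocFree_tensor hL' hL''
  have hb := bijective_tens φ' φ'' (M2.isQCoh_of_isFinLocFree hL') (M2.isQCoh_of_isFinLocFree hL'')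
  let sp : ∀ U, P U → Split S U.1 := fun U hU => (nonempty_split hS hX₂ hX₃ U (hPfree U hU)).some
  let fam : ∀ U, P U → (Γ(F, U.1) →ₗ[Γ(X, U.1)] Γ(T, U.1)) := fun U hU =>
    (tens φ' φ'' U).comp ((delta (sp U hU).r (appLin S.g U.1) hn).comp ((φ U).toLinearMap.comp (appLin ι U.1)))
  have hmem : ∀ U, P U → ∀ a, φ U (ι.app U.1 a) ∈ Fil (appLin S.f U.1) n p := fun U hU a =>
    (hι U hU _).1 ⟨a, rfl⟩
  obtain ⟨π, hπ⟩ := exists_glue hP (fun U hU => (fam U hU).toAddMonoidHom)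
    (fun U hU c m => (fam U hU).map_smul c m) (fun U hU V hV h m => by
      show M1.mres T h (tens φ' φ'' U (delta (sp U hU).r (appLin S.g U.1) hn (φ U (ι.app U.1 m)))) =
        tens φ' φ'' V (delta (sp V hV).r (appLin S.g V.1) hn (φ V (ι.app V.1 (M1.mres F h m))))
      let eV := LinearEquiv.ofBijective (tens φ' φ'' V) (hb V)
      let τ := eV.symm.toLinearMap.toAddMonoidHom.comp
        ((AddCommGrpCat.Hom.hom (M1.mres T h)).comp (tens φ' φ'' U).toAddMonoidHom)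
      have hτ' : ∀ x, tens φ' φ'' V (τ x) = M1.mres T h (tens φ' φ'' U x) := fun x => eV.apply_symm_apply _
      have key := map_delta (sp U hU).r (g := appLin S.g U.1) (f := appLin S.f U.1) (hgf S U.1) (hgf S V.1) (sp V hV).r
        (sp U hU).hr (sp V hV).hr hn (M1.ores h).hom (M1.mres S.X₁ h) (M1.mres S.X₂ h) (M1.mres S.X₃ h)
        (fun x => (M1.map_app_eq S.f h x).symm) (fun x => (M1.map_app_eq S.g h x).symm)
        (rho φ U V h) (rho_smul φ U V h)
        (fun v => by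
          rw [rho_apply, hφ U V h v, LinearEquiv.apply_symm_apply])
        τ (fun c x => (hb V).1 (by rw [hτ', map_smul, res_smul, map_smul, hτ']))
        (fun a b => (hb V).1 (by rw [hτ']; exact res_tens φ' φ'' hφ' hφ'' U V h a b))
        (hmem U hU m)
      rw [← hτ', key]
      refine congrArg (fun z => tens φ' φ'' V (delta (sp V hV).r (appLin S.g V.1) hn z)) ?_
      rw [rho_apply, LinearEquiv.symm_apply_apply]
      exact congrArg (φ V) (M1.map_app_eq ι h m).symm)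
  have hπ' : ∀ U (hU : P U) m, π.app U.1 m = tens φ' φ'' U (delta (sp U hU).r (appLin S.g U.1) hn (φ U (ι.app U.1 m))) :=
    fun U hU m => hπ U hU m
  have hsurj : ∀ U, P U → Function.Surjective (π.app U.1) := fun U hU t => by
    obtain ⟨z, rfl⟩ := (hb U).2 t
    obtain ⟨a, ha⟩ := (hι U hU ((φ U).symm (sigma (appLin S.f U.1) (sp U hU).s hn z))).2
      (by rw [LinearEquiv.apply_symm_apply]; exact sigma_mem _ hn z)
    refine ⟨a, ?_⟩
    rw [hπ' U hU, ha, LinearEquiv.apply_symm_apply,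
      delta_sigma _ (hgf S U.1) _ hn (sp U hU).hr (sp U hU).hs]
  haveI : Epi π := (M1.epi_iff_locally_surjective π).2 fun O t x hx => by
    obtain ⟨V, hV, hxV, hVO⟩ := hP O x hx
    obtain ⟨a, ha⟩ := hsurj V hV (M1.mres T hVO t)
    exact ⟨V.1, hVO, hxV, a, ha⟩
  let C := ShortComplex.mk (kernel.ι π) π (kernel.condition π)
  have hC : C.ShortExact := { exact := ShortComplex.exact_kernel π }
  have hK : FlatMod.IsFinLocFree (kernel π) := DPerf.isFinLocFree_kernel _ _ _ hC hF hT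
  refine ⟨kernel π, kernel.ι π ≫ ι, inferInstance, hK, fun U hU m => ?_, ?_⟩
  · have hiff := fun {x} (hx : x ∈ Fil (appLin S.f U.1) n p) =>
      mem_Fil_succ_iff (sp U hU).r (hgf S U.1) (sp U hU).s hn (sp U hU).hr (sp U hU).hs (hker hS U.1) hx
    constructor
    · rintro ⟨b, rfl⟩
      show φ U (ι.app U.1 ((kernel.ι π).app U.1 b)) ∈ _
      refine (hiff (hmem U hU _)).2 ((hb U).1 ?_)
      rw [← hπ' U hU, map_zero]
      show (kernel.ι π ≫ π).app U.1 b = 0
      rw [kernel.condition]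
      rfl
    · intro hm
      obtain ⟨a, rfl⟩ := (hι U hU m).2 (Fil_antitone _ _ _ hm)
      haveI : Mono C.f := inferInstanceAs (Mono (kernel.ι π))
      obtain ⟨b, hb'⟩ := M1.sections_exact hC.exact U.1 a (by
        show π.app U.1 a = 0
        rw [hπ' U hU, (hiff (hmem U hU a)).1 hm, map_zero])
      exact ⟨b, congrArg (ι.app U.1) hb'⟩
  · exact K0Cat.clSub_ses (P := fun M : X.Modules => FlatMod.IsFinLocFree M) C hC hK hF hT

end Local

/-- The class of an exterior power of an extension. -/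
theorem clSub_extPow (S : ShortComplex X.Modules) (hS : S.ShortExact)
    (h₂ : FlatMod.IsFinLocFree S.X₂) (h₃ : FlatMod.IsFinLocFree S.X₃)
    (L' L L'' : ℕ → X.Modules)
    (hL' : ∀ i, FlatMod.IsFinLocFree (L' i) ∧ ExtPow.IsExtPow i S.X₁ (L' i))
    (hL : ∀ i, FlatMod.IsFinLocFree (L i) ∧ ExtPow.IsExtPow i S.X₂ (L i))
    (hL'' : ∀ i, FlatMod.IsFinLocFree (L'' i) ∧ ExtPow.IsExtPow i S.X₃ (L'' i)) (n : ℕ) :
    KZero.clSub (fun M : X.Modules => FlatMod.IsFinLocFree M) (L n) =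
      ∑ i ∈ Finset.range (n + 1),
        KZero.clSub (fun M : X.Modules => FlatMod.IsFinLocFree M) (CohB1.tensorMod (L' i) (L'' (n - i))) := by
  obtain ⟨φ, hφ⟩ := exists_phi (hL n).2
  let P : X.affineOpens → Prop := fun U => Module.Free Γ(X, U.1) Γ(S.X₃, U.1)
  have hP : IsAffBasis P := by
    intro O x hx
    obtain ⟨U, m, hxU, ⟨e⟩⟩ := h₃ x
    obtain ⟨V, -, hxV, hVO⟩ := isAffBasis_top (O ⊓ U) x ⟨hx, hxU⟩
    obtain ⟨b⟩ := RankStratum13.exists_basis_of_freeMod (M2.isQCoh_of_isFinLocFree h₃) e V.2 (hVO.trans inf_le_right)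
    exact ⟨V, Module.Free.of_basis b, hxV, hVO.trans inf_le_left⟩
  suffices key : ∀ k, k ≤ n + 1 → ∃ (F : X.Modules) (ι : F ⟶ L n), Mono ι ∧ FlatMod.IsFinLocFree F ∧
      IsStep (S := S) φ P k ι ∧ KZero.clSub (fun M : X.Modules => FlatMod.IsFinLocFree M) (L n) =
        KZero.clSub (fun M : X.Modules => FlatMod.IsFinLocFree M) F + ∑ i ∈ Finset.range k,
          KZero.clSub (fun M : X.Modules => FlatMod.IsFinLocFree M) (CohB1.tensorMod (L' i) (L'' (n - i))) by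
    obtain ⟨F, ι, _, hF, hι, hcl⟩ := key (n + 1) le_rfl
    have hz : IsZero F := by
      rw [IsZero.iff_id_eq_zero]
      refine hom_ext_basis hP fun V hV m => M1.app_injective ι V.1 ?_
      have h0 := (hι V hV (ι.app V.1 m)).1 ⟨m, rfl⟩
      rw [Fil_of_lt _ (Nat.lt_succ_self n), Submodule.mem_bot, LinearEquiv.map_eq_zero_iff] at h0
      exact h0.trans (map_zero (ι.app V.1).hom).symm
    rw [hcl, K0Cat.clSub_of_isZero hz hF, zero_add]
  intro k
  induction k with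
  | zero =>
    intro _
    refine ⟨L n, 𝟙 _, inferInstance, (hL n).1, fun U _ m => ⟨fun _ => ?_, fun _ => ⟨m, rfl⟩⟩, by simp⟩
    rw [Fil_zero]; trivial
  | succ p ih =>
    intro hk
    obtain ⟨F, ι, _, hF, hι, hcl⟩ := ih (Nat.le_of_succ_le hk)
    obtain ⟨φ', hφ'⟩ := exists_phi (hL' p).2
    obtain ⟨φ'', hφ''⟩ := exists_phi (hL'' (n - p)).2
    obtain ⟨K, ι', hmono, hK, hι', hcl'⟩ := exists_step φ' φ'' hS (M2.isQCoh_of_isFinLocFree h₃)
      (M2.isQCoh_of_isFinLocFree h₂) (hL' p).1 (hL'' (n - p)).1 hφ hφ' hφ'' (Nat.add_sub_of_le (by omega)) hP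
      (fun U hU => hU) hF ι hι
    refine ⟨K, ι', hmono, hK, hι', ?_⟩
    rw [hcl, hcl', Finset.sum_range_succ]
    abel

end Groth.Agent.ExtFil4
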